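import Mathlib.RingTheory.TotallySplit
import Mathlib.RingTheory.Flat.FaithfullyFlat.Algebra
import Mathlib.RingTheory.Spectrum.Prime.FreeLocus
import Mathlib.RingTheory.Spectrum.Prime.Topology
import Mathlib.RingTheory.Flat.Stability
import Mathlib.RingTheory.Finiteness.ModuleFinitePresentation
import Mathlib.RingTheory.Localization.AtPrime.Basic
import Mathlib.LinearAlgebra.Matrix.Charpoly.LinearMap
import Mathlib.LinearAlgebra.TensorProduct.RightExactness

set_option autoImplicit false
set_option maxHeartbeats 800000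
set_option backward.isDefEq.respectTransparency.types false

universe u

open TensorProduct

namespace Groth.Agent.PinchCoh25

section Residue

variable {T : Type u} [CommRing T]

theorem jacobson_of_map {E : Type u} [CommRing E] [Algebra T E] [IsLocalRing T] [Module.Finite T E] :
    (IsLocalRing.maximalIdeal T).map (algebraMap T E) ≤ Ideal.jacobson ⊥ := by
  refine le_sInf fun I hI => ?_
  rw [Ideal.map_le_iff_le_comap]
  have hm : (I.comap (algebraMap T E)).IsMaximal :=
    haveI := hI.2; Ideal.isMaximal_comap_of_isIntegral_of_isMaximal I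
  rw [IsLocalRing.eq_maximalIdeal hm]

theorem eq_of_idem_sub_mem_jacobson {E : Type u} [CommRing E] {a b : E} (ha : a * a = a) (hb : b * b = b)
    (h : a - b ∈ Ideal.jacobson (⊥ : Ideal E)) : a = b := by
  set x := a - b with hx
  have h3 : x * x * x = x := by
    rw [hx]
    linear_combination (a + 1 - 3 * b) * ha + (3 * a - b - 1) * hb
  have hu : IsUnit (x * (-x) + 1) := Ideal.mem_jacobson_bot.mp h (-x)
  have h0 : x * (x * (-x) + 1) = 0 := by linear_combination -h3
  have := (IsUnit.mul_left_eq_zero hu).mp h0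
  exact sub_eq_zero.mp this

theorem const_of_sub_mem {ι : Type} [Fintype ι] {E : Type u} [CommRing E] [Algebra T E] [IsLocalRing T]
    [Module.Finite T E] (q₁ q₂ : (ι → T) →ₐ[T] E)
    (hex : ∀ w, q₁ w = q₂ w → ∃ c : T, w = algebraMap T (ι → T) c) (v : ι → T)
    (hv : q₁ v - q₂ v ∈ (IsLocalRing.maximalIdeal T).map (algebraMap T E)) (i j : ι) :
    v j - v i ∈ IsLocalRing.maximalIdeal T := by
  classical
  set J := (IsLocalRing.maximalIdeal T).map (algebraMap T E) with hJ
  by_contra hji
  let S : Subalgebra T (ι → T) :=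
    AlgHom.equalizer ((Ideal.Quotient.mkₐ T J).comp q₁) ((Ideal.Quotient.mkₐ T J).comp q₂)
  have memS : ∀ w, w ∈ S ↔ q₁ w - q₂ w ∈ J := fun w => by
    simp [S, AlgHom.mem_equalizer, Ideal.Quotient.mk_eq_mk_iff_sub_mem]
  have hvS : v ∈ S := (memS v).mpr hv
  let P : Finset ι := Finset.univ.filter fun l => v l - v i ∉ IsLocalRing.maximalIdeal T
  have hinv : ∀ l, ∃ u : T, l ∈ P → u * (v i - v l) = 1 := by
    intro l
    by_cases h : l ∈ P
    · have h1 : v i - v l ∉ IsLocalRing.maximalIdeal T := fun h' => (Finset.mem_filter.mp h).2 (by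
        rw [← neg_sub]; exact Ideal.neg_mem_iff _ |>.mpr h')
      obtain ⟨u, hu⟩ := (IsLocalRing.notMem_maximalIdeal.mp h1).exists_left_inv
      exact ⟨u, fun _ => hu⟩
    · exact ⟨0, fun h' => absurd h' h⟩
  choose u hu using hinv
  let w : ι → T := ∏ l ∈ P, algebraMap T (ι → T) (u l) * (v - algebraMap T (ι → T) (v l))
  have hwS : w ∈ S := Subalgebra.prod_mem _ fun l _ =>
    S.mul_mem (S.algebraMap_mem _) (S.sub_mem hvS (S.algebraMap_mem _))
  have hwapp : ∀ l, w l = ∏ k ∈ P, u k * (v l - v k) := fun l => by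
    simp [w, Finset.prod_apply]
  let ε : ι → T := fun l => if l ∈ P then 0 else 1
  have hε : ∀ l, w l - ε l ∈ IsLocalRing.maximalIdeal T := by
    intro l
    by_cases h : l ∈ P
    · rw [hwapp]
      simp only [ε, if_pos h, sub_zero]
      rw [Finset.prod_eq_zero h (by simp)]
      exact Submodule.zero_mem _
    · have hl : v l - v i ∈ IsLocalRing.maximalIdeal T := by
        simpa [P] using h
      rw [hwapp, ← Ideal.Quotient.mk_eq_mk_iff_sub_mem, map_prod]
      simp only [ε, if_neg h, map_one]
      refine Finset.prod_eq_one fun k hk => ?_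
      rw [← map_one (Ideal.Quotient.mk (IsLocalRing.maximalIdeal T)), ← hu k hk,
        Ideal.Quotient.mk_eq_mk_iff_sub_mem, show u k * (v l - v k) - u k * (v i - v k) = u k * (v l - v i) by ring]
      exact Ideal.mul_mem_left _ _ hl
  have hεS : ε ∈ S := by
    rw [memS]
    have hq : ∀ (q : (ι → T) →ₐ[T] E), q w - q ε ∈ J := by
      intro q
      have hd : w - ε = ∑ l, algebraMap T (ι → T) (w l - ε l) * Pi.single l 1 := by
        funext k
        simp [Finset.sum_apply, Pi.single_apply]
      rw [← map_sub, hd, map_sum]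
      refine Ideal.sum_mem _ fun l _ => ?_
      rw [map_mul, AlgHom.commutes]
      exact Ideal.mul_mem_right _ _ (Ideal.mem_map_of_mem _ (hε l))
    have := Ideal.add_mem _ (Ideal.sub_mem _ ((memS w).mp hwS) (hq q₁)) (hq q₂)
    convert! this using 1
    ring
  have hidem : ε * ε = ε := by funext l; by_cases h : l ∈ P <;> simp [ε, h]
  have heq : q₁ ε = q₂ ε := eq_of_idem_sub_mem_jacobson (by rw [← map_mul, hidem]) (by rw [← map_mul, hidem])
    (jacobson_of_map ((memS ε).mp hεS))
  obtain ⟨c, hc⟩ := hex ε heq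
  have hjP : j ∈ P := Finset.mem_filter.mpr ⟨Finset.mem_univ _, hji⟩
  have hiP : i ∉ P := by simp [P]
  have e1 := congrFun hc j
  have e2 := congrFun hc i
  simp [ε, if_pos hjP] at e1
  simp [ε, if_neg hiP] at e2
  rw [← e1] at e2
  exact one_ne_zero e2

end Residue

variable {R : Type u} [CommRing R] {B E : Type u} [CommRing B] [CommRing E] [Algebra R B] [Algebra R E]

/-- Step 1. -/
theorem mem_smul_of_sub_mem [IsDomain R] [Algebra.Etale R B] [Module.Finite R B] [Module.Finite R E]
    (p₁ p₂ : B →ₐ[R] E) (hex : ∀ b, p₁ b = p₂ b → b ∈ Set.range (algebraMap R B))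
    (m : Ideal R) [m.IsMaximal] (b : B) (hb : p₁ b - p₂ b ∈ m • (⊤ : Submodule R E)) :
    Submodule.Quotient.mk b ∈ m • (⊤ : Submodule R (B ⧸ LinearMap.range (Algebra.linearMap R B))) := by
  classical
  by_contra hcon
  haveI : Module.FinitePresentation R B := Module.FinitePresentation.of_finite_of_finitePresentation R B
  obtain ⟨n, hn⟩ : ∃ n : ℕ, Module.rankAtStalk (R := R) B = n := by
    have h := Module.isLocallyConstant_rankAtStalk (R := R) (M := B)
    exact ⟨Module.rankAtStalk (R := R) B ⊥, funext fun p => h.apply_eq_of_preconnectedSpace p ⊥⟩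
  obtain ⟨R', _, _, _, _, _, hsplit⟩ := Algebra.IsFiniteSplit.exists_tensorProduct_of_etale hn
  obtain ⟨n', ⟨e⟩⟩ := hsplit.nonempty_algEquiv_fun
  obtain ⟨q, hq⟩ := PrimeSpectrum.comap_surjective_of_faithfullyFlat (A := R) (B := R') ⟨m, inferInstance⟩
  let T := Localization.AtPrime q.asIdeal
  haveI : Module.Flat R T := Module.Flat.trans R R' T
  have hmT : m.map (algebraMap R T) ≤ IsLocalRing.maximalIdeal T := by
    rw [Ideal.map_le_iff_le_comap, IsScalarTower.algebraMap_eq R R' T, ← Ideal.comap_comap]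
    refine le_of_eq ((congrArg PrimeSpectrum.asIdeal hq).symm.trans ?_)
    exact congrArg (Ideal.comap (algebraMap R R')) (IsLocalization.AtPrime.under_maximalIdeal T q.asIdeal).symm
  haveI : Algebra.IsFiniteSplit R' (R' ⊗[R] B) := hsplit
  haveI : Algebra.IsFiniteSplit T (T ⊗[R] B) :=
    Algebra.IsFiniteSplit.of_algEquiv (Algebra.TensorProduct.cancelBaseChange R R' T T B)
  obtain ⟨n'', ⟨eT⟩⟩ := Algebra.IsFiniteSplit.nonempty_algEquiv_fun T (T ⊗[R] B)
  let q₁ : (Fin n'' → T) →ₐ[T] T ⊗[R] E := (Algebra.TensorProduct.map (AlgHom.id T T) p₁).comp eT.symm.toAlgHom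
  let q₂ : (Fin n'' → T) →ₐ[T] T ⊗[R] E := (Algebra.TensorProduct.map (AlgHom.id T T) p₂).comp eT.symm.toAlgHom
  have hexact : Function.Exact (Algebra.linearMap R B) (p₁.toLinearMap - p₂.toLinearMap) := by
    intro x
    constructor
    · intro hx
      exact hex x (sub_eq_zero.mp hx)
    · rintro ⟨r, rfl⟩
      simp
  have hexT := Module.Flat.lTensor_exact T hexact
  have hmap : ∀ (p : B →ₐ[R] E) (x : T ⊗[R] B),
      Algebra.TensorProduct.map (AlgHom.id T T) p x = p.toLinearMap.lTensor T x := by
    intro p x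
    induction x using TensorProduct.induction_on with
    | zero => simp
    | tmul a b => simp
    | add x y hx hy => simp only [map_add, hx, hy]
  have hex' : ∀ w, q₁ w = q₂ w → ∃ c : T, w = algebraMap T (Fin n'' → T) c := by
    intro w hw
    have h0 : (p₁.toLinearMap - p₂.toLinearMap).lTensor T (eT.symm w) = 0 := by
      rw [LinearMap.lTensor_sub, LinearMap.sub_apply, ← hmap, ← hmap]
      exact sub_eq_zero.mpr hw
    obtain ⟨y, hy⟩ := (hexT _).mp h0
    refine ⟨TensorProduct.rid R T y, ?_⟩
    have hy' : (Algebra.linearMap R B).lTensor T y = algebraMap T (T ⊗[R] B) (TensorProduct.rid R T y) := by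
      clear hy h0 hw
      induction y using TensorProduct.induction_on with
      | zero => simp
      | tmul a r => simp [Algebra.TensorProduct.algebraMap_apply, TensorProduct.smul_tmul,
          Algebra.algebraMap_eq_smul_one r]
      | add x y hx hy => simp only [map_add, hx, hy]
    rw [hy'] at hy
    have := congrArg eT hy
    rw [AlgEquiv.commutes, AlgEquiv.apply_symm_apply] at this
    exact this.symm
  set v := eT ((1 : T) ⊗ₜ[R] b) with hvdef
  have hv : q₁ v - q₂ v ∈ (IsLocalRing.maximalIdeal T).map (algebraMap T (T ⊗[R] E)) := by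
    have : q₁ v - q₂ v = (1 : T) ⊗ₜ[R] (p₁ b - p₂ b) := by
      simp [q₁, q₂, v, TensorProduct.tmul_sub]
    rw [this]
    revert hb
    generalize p₁ b - p₂ b = z
    intro hz
    induction hz using Submodule.smul_induction_on' with
    | smul r hr x _ =>
      have : (1 : T) ⊗ₜ[R] (r • x) = algebraMap T (T ⊗[R] E) (algebraMap R T r) * ((1 : T) ⊗ₜ x) := by
        rw [TensorProduct.tmul_smul, ← IsScalarTower.algebraMap_smul T r ((1 : T) ⊗ₜ[R] x)]
        exact Algebra.smul_def (A := T ⊗[R] E) (algebraMap R T r) _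
      rw [this]
      exact Ideal.mul_mem_right _ _ (Ideal.mem_map_of_mem _ (hmT (Ideal.mem_map_of_mem _ hr)))
    | add x _ y _ hx hy => rw [TensorProduct.tmul_add]; exact Ideal.add_mem _ hx hy
  have hconst := const_of_sub_mem q₁ q₂ hex' v hv
  letI := Ideal.Quotient.field m
  let W := B ⧸ LinearMap.range (Algebra.linearMap R B)
  let M := W ⧸ m • (⊤ : Submodule R W)
  have hne : (Submodule.Quotient.mk (Submodule.Quotient.mk b : W) : M) ≠ 0 := by
    simpa [Submodule.Quotient.mk_eq_zero] using hcon
  obtain ⟨φ, hφ⟩ := LinearMap.exists_leftInverse_of_injective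
    (LinearMap.toSpanSingleton (R ⧸ m) M (Submodule.Quotient.mk (Submodule.Quotient.mk b : W)))
    (LinearMap.ker_toSpanSingleton (R ⧸ m) hne)
  have hφ1 : φ (Submodule.Quotient.mk (Submodule.Quotient.mk b : W)) = 1 := by
    simpa using LinearMap.congr_fun hφ 1
  let κ := IsLocalRing.ResidueField T
  let emb : (R ⧸ m) →+* κ := Ideal.Quotient.lift m ((IsLocalRing.residue T).comp (algebraMap R T))
    fun r hr => Ideal.Quotient.eq_zero_iff_mem.mpr (hmT (Ideal.mem_map_of_mem _ hr))
  let f₀ : B →ₗ[R] κ :=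
    { toFun := fun x => emb (φ (Submodule.Quotient.mk (Submodule.Quotient.mk x : W)))
      map_add' := fun x y => by simp
      map_smul' := fun r x => by
        rw [RingHom.id_apply, Submodule.Quotient.mk_smul, Submodule.Quotient.mk_smul]
        have : (r • Submodule.Quotient.mk (Submodule.Quotient.mk x : W) : M) =
            (Ideal.Quotient.mk m r) • Submodule.Quotient.mk (Submodule.Quotient.mk x : W) := rfl
        rw [this, map_smul, smul_eq_mul, map_mul, Algebra.smul_def]
        rfl }
  let Φ : T ⊗[R] B →ₗ[T] κ := LinearMap.liftBaseChange T f₀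
  have h1 : f₀ 1 = 0 := by
    have : (Submodule.Quotient.mk (1 : B) : W) = 0 :=
      (Submodule.Quotient.mk_eq_zero _).mpr ⟨1, by simp⟩
    simp [f₀, this]
  have hb1 : Φ ((1 : T) ⊗ₜ b) = 1 := by simp [Φ, f₀, hφ1]
  have hone : Φ 1 = 0 := by simp [Φ, Algebra.TensorProduct.one_def, h1]
  rcases Nat.eq_zero_or_pos n'' with h0 | h0
  · subst h0
    have : (1 : T) ⊗ₜ[R] b = 0 := eT.injective (Subsingleton.elim _ _)
    rw [this, map_zero] at hb1
    exact zero_ne_one hb1
  · let i : Fin n'' := ⟨0, h0⟩
    have hd : (1 : T) ⊗ₜ[R] b = v i • 1 + ∑ l, (v l - v i) • eT.symm (Pi.single l 1) := by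
      apply eT.injective
      simp only [map_add, map_smul, map_one, map_sum, AlgEquiv.apply_symm_apply, ← hvdef]
      funext k
      simp [Finset.sum_apply, Pi.single_apply]
    have hκ : ∀ (t : T) (z : κ), t ∈ IsLocalRing.maximalIdeal T → t • z = 0 := fun t z ht => by
      rw [Algebra.smul_def, show algebraMap T κ t = 0 from (IsLocalRing.residue_eq_zero_iff t).mpr ht, zero_mul]
    rw [hd, map_add, map_smul, hone, smul_zero, zero_add, map_sum,
      Finset.sum_eq_zero fun l _ => by rw [map_smul]; exact hκ _ _ (hconst i l)] at hb1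
    exact zero_ne_one hb1

theorem exists_retraction {W Q : Type u} [AddCommGroup W] [Module R W] [Module.Finite R W] [AddCommGroup Q]
    [Module R Q] [Module.Projective R Q] (f : W →ₗ[R] Q)
    (hf : ∀ (m : Ideal R), m.IsMaximal → ∀ w, f w ∈ m • (⊤ : Submodule R Q) → w ∈ m • (⊤ : Submodule R W)) :
    ∃ l : Q →ₗ[R] W, l.comp f = LinearMap.id := by
  let I : Ideal R :=
    { carrier := {a | ∃ l : Q →ₗ[R] W, l.comp f = a • LinearMap.id}
      add_mem' := by
        rintro a b ⟨l, hl⟩ ⟨l', hl'⟩
        exact ⟨l + l', by rw [LinearMap.add_comp, hl, hl', add_smul]⟩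
      zero_mem' := ⟨0, by simp⟩
      smul_mem' := by
        rintro c a ⟨l, hl⟩
        exact ⟨c • l, by rw [LinearMap.smul_comp, hl, smul_smul, smul_eq_mul]⟩ }
  suffices hI : I = ⊤ by
    obtain ⟨l, hl⟩ : (1 : R) ∈ I := hI ▸ Submodule.mem_top
    exact ⟨l, by simpa using hl⟩
  by_contra hI
  obtain ⟨m, hm, hle⟩ := Ideal.exists_le_maximal I hI
  letI := Ideal.Quotient.field m
  let fm : (W ⧸ m • (⊤ : Submodule R W)) →ₗ[R] (Q ⧸ m • (⊤ : Submodule R Q)) :=
    Submodule.mapQ _ _ f (fun x hx => Submodule.smul_top_le_comap_smul_top m f hx)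
  have hfm : ∀ x, fm x = 0 → x = 0 := by
    intro x hx
    induction x using Submodule.Quotient.induction_on with
    | H w =>
      rw [Submodule.mapQ_apply, Submodule.Quotient.mk_eq_zero] at hx
      exact (Submodule.Quotient.mk_eq_zero _).mpr (hf m hm w hx)
  let fk : (W ⧸ m • (⊤ : Submodule R W)) →ₗ[R ⧸ m] (Q ⧸ m • (⊤ : Submodule R Q)) :=
    { toFun := fm
      map_add' := fm.map_add
      map_smul' := fun c x => by
        obtain ⟨r, rfl⟩ := Ideal.Quotient.mk_surjective c
        exact fm.map_smul r x }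
  obtain ⟨g, hg⟩ := LinearMap.exists_leftInverse_of_injective fk (LinearMap.ker_eq_bot'.mpr hfm)
  let gR : (Q ⧸ m • (⊤ : Submodule R Q)) →ₗ[R] (W ⧸ m • (⊤ : Submodule R W)) :=
    { toFun := g
      map_add' := g.map_add
      map_smul' := fun r x => g.map_smul (Ideal.Quotient.mk m r) x }
  obtain ⟨l, hl⟩ := Module.projective_lifting_property (Submodule.mkQ (m • (⊤ : Submodule R W)))
    (gR.comp (Submodule.mkQ _)) (Submodule.mkQ_surjective _)
  set h : Module.End R W := l.comp f with hh
  have hrange : LinearMap.range (h - 1) ≤ m • ⊤ := by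
    rintro _ ⟨w, rfl⟩
    rw [← Submodule.Quotient.mk_eq_zero, LinearMap.sub_apply, Submodule.Quotient.mk_sub, sub_eq_zero]
    exact (LinearMap.congr_fun hl (f w)).trans (LinearMap.congr_fun hg (Submodule.Quotient.mk w))
  obtain ⟨p, hmon, -, hcoeff, hp⟩ :=
    LinearMap.exists_monic_and_natDegree_eq_and_coeff_mem_pow_and_aeval_eq_zero R (h - 1) m hrange
  have ha : p.eval (-1) ∉ m := by
    rw [← Ideal.Quotient.eq_zero_iff_mem, Polynomial.eval_eq_sum_range, map_sum,
      Finset.sum_eq_single p.natDegree]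
    · rw [hmon.coeff_natDegree, one_mul, map_pow, map_neg, map_one]
      exact pow_ne_zero _ (neg_ne_zero.mpr one_ne_zero)
    · intro k hk hne
      have hk' : k < p.natDegree := lt_of_le_of_ne (Nat.lt_succ_iff.mp (Finset.mem_range.mp hk)) hne
      rw [Ideal.Quotient.eq_zero_iff_mem]
      exact Ideal.mul_mem_right _ _ (Ideal.pow_le_self (by omega) (hcoeff k))
    · intro hni
      exact absurd (Finset.mem_range.mpr (Nat.lt_succ_self _)) hni
  refine ha (hle ?_)
  let P := p.comp (Polynomial.X - 1)
  have hP : Polynomial.aeval h P = 0 := by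
    rw [Polynomial.aeval_comp]
    simpa using hp
  have hP0 : P.coeff 0 = p.eval (-1) := by
    simp [P, Polynomial.coeff_zero_eq_eval_zero, Polynomial.eval_comp]
  refine ⟨-((Polynomial.aeval h P.divX).comp l), ?_⟩
  have := congrArg (Polynomial.aeval h) P.divX_mul_X_add
  simp only [map_add, map_mul, Polynomial.aeval_X, Polynomial.aeval_C, hP, hP0] at this
  rw [LinearMap.neg_comp, LinearMap.comp_assoc, ← hh]
  change -(Polynomial.aeval h P.divX * h) = _
  rw [eq_neg_of_add_eq_zero_left this, neg_neg]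
  rfl

/-- Main algebraic statement. -/
theorem main [IsDomain R] [Algebra.Etale R B] [Module.Finite R B] {C D : Type u} [CommRing C] [CommRing D]
    [Algebra R C] [Algebra R D] [Module.Finite R C] [Algebra D C] [IsScalarTower R D C] [Module.FaithfullyFlat D C]
    (ψ : B →ₐ[R] C)
    [Module.Projective R (C ⧸ LinearMap.range (IsScalarTower.toAlgHom R D C).toLinearMap)]
    (hinj : Function.Injective (algebraMap R B))
    (hex : ∀ b, ψ b ∈ Set.range (algebraMap D C) → b ∈ Set.range (algebraMap R B))
    (A : Type u) [CommRing A] [Algebra R A] :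
    Function.Injective (fun a : A => a ⊗ₜ[R] (1 : B)) ∧
    Function.Injective ((IsScalarTower.toAlgHom R D C).toLinearMap.lTensor A) ∧
    ∀ (x : A ⊗[R] B) (y : A ⊗[R] D),
      ψ.toLinearMap.lTensor A x = (IsScalarTower.toAlgHom R D C).toLinearMap.lTensor A y →
      ∃ a : A, x = a ⊗ₜ[R] (1 : B) := by
  set ι := (IsScalarTower.toAlgHom R D C).toLinearMap with hι
  haveI : FaithfulSMul R B := (faithfulSMul_iff_algebraMap_injective R B).mpr hinj
  haveI : Module.FaithfullyFlat R B :=
    Module.FaithfullyFlat.of_comap_surjective (Algebra.IsIntegral.comap_surjective R B)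
  have hι_inj : Function.Injective ι := fun a b h => FaithfulSMul.algebraMap_injective D C h
  refine ⟨?_, ?_, ?_⟩
  · have := Module.FaithfullyFlat.tensorProduct_mk_injective (A := R) (B := B) A
    intro a b hab
    apply this
    have := congrArg (TensorProduct.comm R A B) hab
    simpa using this
  · obtain ⟨s, hs⟩ := Module.projective_lifting_property (LinearMap.range ι).mkQ LinearMap.id
      (Submodule.mkQ_surjective _)
    have htfae := (Function.Exact.split_tfae ι.exact_map_mkQ_range hι_inj
      (Submodule.mkQ_surjective _)).out 0 1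
    obtain ⟨r, hr⟩ := htfae.mp ⟨s, hs⟩
    refine Function.HasLeftInverse.injective ⟨r.lTensor A, fun z => ?_⟩
    rw [← LinearMap.comp_apply, ← LinearMap.lTensor_comp, hr, LinearMap.lTensor_id, LinearMap.id_apply]
  · let f' : (B ⧸ LinearMap.range (Algebra.linearMap R B)) →ₗ[R] (C ⧸ LinearMap.range ι) :=
      Submodule.mapQ _ _ ψ.toLinearMap (by rintro _ ⟨r, rfl⟩; exact ⟨algebraMap R D r, by simp [ι]⟩)
    haveI : Module.Finite D C := Module.Finite.of_restrictScalars_finite R D C
    haveI : Module.Finite R (C ⊗[D] C) := Module.Finite.trans C _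
    let p₁ : B →ₐ[R] C ⊗[D] C := ((Algebra.TensorProduct.includeLeft : C →ₐ[D] C ⊗[D] C).restrictScalars R).comp ψ
    let p₂ : B →ₐ[R] C ⊗[D] C := ((Algebra.TensorProduct.includeRight : C →ₐ[D] C ⊗[D] C).restrictScalars R).comp ψ
    have hp : ∀ b, p₁ b = p₂ b → b ∈ Set.range (algebraMap R B) := by
      intro b hb
      apply hex
      let Lk : Submodule D C := LinearMap.range (Algebra.linearMap D C)
      have h2 := congrArg (Lk.mkQ.rTensor C) hb
      simp only [p₁, p₂, AlgHom.comp_apply, AlgHom.restrictScalars_apply,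
        Algebra.TensorProduct.includeLeft_apply, Algebra.TensorProduct.includeRight_apply,
        LinearMap.rTensor_tmul] at h2
      have h1 : Lk.mkQ (1 : C) = 0 := (Submodule.Quotient.mk_eq_zero _).mpr ⟨1, by simp⟩
      rw [h1, TensorProduct.zero_tmul] at h2
      have h3 : Lk.mkQ (ψ b) = 0 := by
        apply Module.FaithfullyFlat.tensorProduct_mk_injective (A := D) (B := C) (C ⧸ Lk)
        have h4 := congrArg (TensorProduct.comm D (C ⧸ Lk) C) h2
        simpa using h4
      exact (Submodule.Quotient.mk_eq_zero _).mp h3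
    let η : C →ₗ[R] C ⊗[D] C :=
      (Algebra.TensorProduct.includeLeft : C →ₐ[D] C ⊗[D] C).toLinearMap.restrictScalars R -
      (Algebra.TensorProduct.includeRight : C →ₐ[D] C ⊗[D] C).toLinearMap.restrictScalars R
    let η' : (C ⧸ LinearMap.range ι) →ₗ[R] C ⊗[D] C := Submodule.liftQ _ η (by
      rintro _ ⟨d, rfl⟩
      simp [η, ι, Algebra.algebraMap_eq_smul_one, TensorProduct.smul_tmul'])
    have hf : ∀ (m : Ideal R), m.IsMaximal → ∀ w, f' w ∈ m • (⊤ : Submodule R _) →
        w ∈ m • (⊤ : Submodule R _) := by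
      intro m hm w hw
      induction w using Submodule.Quotient.induction_on with
      | H b =>
        exact mem_smul_of_sub_mem p₁ p₂ hp m b (Submodule.smul_top_le_comap_smul_top m η' hw)
    obtain ⟨l, hl⟩ := exists_retraction f' hf
    intro x y hxy
    have h0 : (LinearMap.range (Algebra.linearMap R B)).mkQ.lTensor A x = 0 := by
      have e : l ∘ₗ ((LinearMap.range ι).mkQ ∘ₗ ψ.toLinearMap) = (LinearMap.range (Algebra.linearMap R B)).mkQ := by
        ext b
        exact LinearMap.congr_fun hl (Submodule.Quotient.mk b)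
      rw [← e, LinearMap.lTensor_comp_apply, LinearMap.lTensor_comp_apply, hxy,
        ← LinearMap.lTensor_comp_apply A (LinearMap.range ι).mkQ ι,
        LinearMap.exact_map_mkQ_range ι |>.linearMap_comp_eq_zero]
      simp
    obtain ⟨z, hz⟩ := (lTensor_exact A (LinearMap.exact_map_mkQ_range (Algebra.linearMap R B))
      (Submodule.mkQ_surjective _) x).mp h0
    refine ⟨TensorProduct.rid R A z, hz.symm.trans ?_⟩
    clear hz
    induction z using TensorProduct.induction_on with
    | zero => simp
    | tmul a r => simp [TensorProduct.smul_tmul, Algebra.algebraMap_eq_smul_one r]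
    | add x y hx hy => simp only [map_add, hx, hy, TensorProduct.add_tmul]

end Groth.Agent.PinchCoh25
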