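import Groth.Agent.Lib.PinchCoh25.Alg
import Groth.Prelude.Def_W4c3jacimperfPinch
import Groth.Agent.S15954
import Groth.Agent.Lib.Stein6.Finite
import Mathlib.AlgebraicGeometry.Morphisms.Flat
import Mathlib.AlgebraicGeometry.Morphisms.Finite
import Mathlib.RingTheory.DedekindDomain.Basic

set_option autoImplicit false
set_option maxHeartbeats 800000
set_option backward.isDefEq.respectTransparency.types false

universe u

open CategoryTheory Limits AlgebraicGeometry TensorProduct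

namespace Groth.Agent.PinchCoh25

/-- The comparison map out of a tensor product attached to a pushout of rings is bijective. -/
theorem exists_equiv_of_isPushout {R A B P : Type u} [CommRing R] [CommRing A] [CommRing B] [CommRing P]
    [Algebra R A] [Algebra R B] {j : A →+* P} {i : B →+* P}
    (h : IsPushout (CommRingCat.ofHom (algebraMap R B)) (CommRingCat.ofHom (algebraMap R A))
      (CommRingCat.ofHom i) (CommRingCat.ofHom j)) :
    ∃ e : (A ⊗[R] B) ≃+* P, (∀ a, e (a ⊗ₜ 1) = j a) ∧ ∀ b, e (1 ⊗ₜ b) = i b := by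
  refine ⟨((CommRingCat.isPushout_tensorProduct R A B).isoIsPushout _ _ h.flip).commRingCatIsoToRingEquiv, ?_, ?_⟩
  · intro a
    exact RingHom.congr_fun (congrArg CommRingCat.Hom.hom
      ((CommRingCat.isPushout_tensorProduct R A B).inl_isoIsPushout_hom _ _ h.flip)) a
  · intro b
    exact RingHom.congr_fun (congrArg CommRingCat.Hom.hom
      ((CommRingCat.isPushout_tensorProduct R A B).inr_isoIsPushout_hom _ _ h.flip)) b

theorem lTensor_compat {R A B C P Q : Type u} [CommRing R] [CommRing A] [CommRing B] [CommRing C]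
    [CommRing P] [CommRing Q] [Algebra R A] [Algebra R B] [Algebra R C] (ψ : B →ₗ[R] C) (hψ1 : ψ 1 = 1)
    {eP : (A ⊗[R] B) ≃+* P} {eQ : (A ⊗[R] C) ≃+* Q}
    {jP : A →+* P} {iP : B →+* P} {jQ : A →+* Q} {iQ : C →+* Q}
    (hP1 : ∀ a, eP (a ⊗ₜ 1) = jP a) (hP2 : ∀ b, eP (1 ⊗ₜ b) = iP b)
    (hQ1 : ∀ a, eQ (a ⊗ₜ 1) = jQ a) (hQ2 : ∀ b, eQ (1 ⊗ₜ b) = iQ b)
    (g : P →+* Q) (hgj : ∀ a, g (jP a) = jQ a) (hgi : ∀ b, g (iP b) = iQ (ψ b)) (x : A ⊗[R] B) :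
    g (eP x) = eQ (ψ.lTensor A x) := by
  induction x using TensorProduct.induction_on with
  | zero => simp
  | tmul a b =>
    rw [LinearMap.lTensor_tmul, show a ⊗ₜ[R] b = (a ⊗ₜ 1) * ((1 : A) ⊗ₜ b) by simp,
      show a ⊗ₜ[R] ψ b = (a ⊗ₜ 1) * ((1 : A) ⊗ₜ ψ b) by simp, map_mul, map_mul, map_mul, hP1, hP2, hQ1, hQ2,
      hgj, hgi]
  | add x y hx hy => simp only [map_add, hx, hy]

/-- Global functions turn pushouts of schemes into pullbacks of rings. -/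
theorem isPullback_appTop {X T Z P : Scheme.{u}} {ι : Z ⟶ X} {ξ : Z ⟶ T} {a : X ⟶ P} {b : T ⟶ P}
    (h : IsPushout ι ξ a b) : IsPullback a.appTop b.appTop ι.appTop ξ.appTop := by
  haveI : PreservesColimitsOfShape WalkingSpan Scheme.Γ.rightOp.{u} :=
    ΓSpec.adjunction.leftAdjoint_preservesColimits.preservesColimitsOfShape
  exact (h.map Scheme.Γ.rightOp).unop.flip

theorem pullback_ext {A B C D : CommRingCat.{u}} {f : A ⟶ B} {g : A ⟶ C} {h : B ⟶ D} {k : C ⟶ D}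
    (H : IsPullback f g h k) (z z' : A) (h1 : f z = f z') (h2 : g z = g z') : z = z' := by
  have H' := H.map (CategoryTheory.forget CommRingCat)
  exact (Types.isPullback_iff _ _ _ _).mp H' |>.2.1 z z' ⟨h1, h2⟩

/-- The scheme-theoretic core. -/
theorem isIso_aux {X Y T Z X' T' Z' P' : Scheme.{u}} {A : CommRingCat.{u}}
    [IsAffine Y] [IsAffine T] [IsAffine Z] [IsDomain Γ(Y, ⊤)]
    {f : X ⟶ Y} {t : T ⟶ Y} {ξ : Z ⟶ T} {ι : Z ⟶ X} (hsq : ι ≫ f = ξ ≫ t)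
    [Flat ξ] [Surjective ξ]
    (hBfin : f.appTop.hom.Finite) (hBet : f.appTop.hom.Etale) (hCfin : (ξ ≫ t).appTop.hom.Finite)
    (hv : @Pinch.CokerProjective Γ(Y, ⊤) Γ(Z, ⊤) Γ(T, ⊤) _ _ _ (ξ ≫ t).appTop.hom.toAlgebra ξ.appTop.hom)
    (hinj : Function.Injective f.appTop.hom)
    (hex : ∀ b : Γ(X, ⊤), (∃ d, ξ.appTop d = ι.appTop b) → ∃ r, f.appTop r = b)
    {gX : X' ⟶ X} {gT : T' ⟶ T} {gZ : Z' ⟶ Z} (φ : Γ(Y, ⊤) ⟶ A)
    (jX : A ⟶ Γ(X', ⊤)) (jT : A ⟶ Γ(T', ⊤)) (jZ : A ⟶ Γ(Z', ⊤)) (jP : A ⟶ Γ(P', ⊤))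
    (hX : IsPushout f.appTop φ gX.appTop jX) (hT : IsPushout t.appTop φ gT.appTop jT)
    (hZ : IsPushout (ξ ≫ t).appTop φ gZ.appTop jZ)
    {ι' : Z' ⟶ X'} {ξ' : Z' ⟶ T'} {a' : X' ⟶ P'} {b' : T' ⟶ P'}
    (hP : IsPushout ι' ξ' a' b')
    (h1 : ι' ≫ gX = gZ ≫ ι) (h2 : ξ' ≫ gT = gZ ≫ ξ)
    (h3 : jX ≫ ι'.appTop = jZ) (h4 : jT ≫ ξ'.appTop = jZ)
    (h5 : jP ≫ a'.appTop = jX) (h6 : jP ≫ b'.appTop = jT) :
    IsIso jP := by
  letI := f.appTop.hom.toAlgebra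
  letI := (ξ ≫ t).appTop.hom.toAlgebra
  letI := t.appTop.hom.toAlgebra
  letI := φ.hom.toAlgebra
  letI := ξ.appTop.hom.toAlgebra
  haveI : IsScalarTower Γ(Y, ⊤) Γ(T, ⊤) Γ(Z, ⊤) := IsScalarTower.of_algebraMap_eq' (by
    simp only [RingHom.algebraMap_toAlgebra]
    rw [Scheme.Hom.comp_appTop]
    rfl)
  haveI : Module.Finite Γ(Y, ⊤) Γ(X, ⊤) := hBfin
  haveI : Algebra.Etale Γ(Y, ⊤) Γ(X, ⊤) := hBet
  haveI : Module.Finite Γ(Y, ⊤) Γ(Z, ⊤) := hCfin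
  haveI : Module.FaithfullyFlat Γ(T, ⊤) Γ(Z, ⊤) :=
    (Flat.flat_and_surjective_iff_faithfullyFlat_of_isAffine ξ).mp ⟨inferInstance, inferInstance⟩
  let ψ : Γ(X, ⊤) →ₐ[Γ(Y, ⊤)] Γ(Z, ⊤) :=
    { ι.appTop.hom with
      commutes' := fun r => by
        have := congrArg (fun q => q.appTop r) hsq
        simpa [RingHom.algebraMap_toAlgebra] using this }
  haveI : Module.Projective Γ(Y, ⊤)
      (Γ(Z, ⊤) ⧸ LinearMap.range (IsScalarTower.toAlgHom Γ(Y, ⊤) Γ(T, ⊤) Γ(Z, ⊤)).toLinearMap) := by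
    have e : Submodule.span Γ(Y, ⊤) (Set.range ξ.appTop.hom) =
        LinearMap.range (IsScalarTower.toAlgHom Γ(Y, ⊤) Γ(T, ⊤) Γ(Z, ⊤)).toLinearMap := by
      rw [← Submodule.span_eq (LinearMap.range _)]
      rfl
    exact e ▸ (hv : Module.Projective Γ(Y, ⊤) (Γ(Z, ⊤) ⧸ Submodule.span Γ(Y, ⊤) (Set.range ξ.appTop.hom)))
  obtain ⟨m1, m2, m3⟩ := main (D := Γ(T, ⊤)) ψ hinj (fun b ⟨d, hd⟩ => hex b ⟨d, hd⟩) A
  obtain ⟨eX, hX1, hX2⟩ := exists_equiv_of_isPushout (i := gX.appTop.hom) (j := jX.hom) hX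
  obtain ⟨eT, hT1, hT2⟩ := exists_equiv_of_isPushout (i := gT.appTop.hom) (j := jT.hom) hT
  obtain ⟨eZ, hZ1, hZ2⟩ := exists_equiv_of_isPushout (i := gZ.appTop.hom) (j := jZ.hom) hZ
  have cX := lTensor_compat ψ.toLinearMap (map_one ψ) hX1 hX2 hZ1 hZ2 ι'.appTop.hom
    (fun a => congrArg (fun q => q a) h3)
    (fun b => congrArg (fun q => q.appTop b) h1)
  have cT := lTensor_compat (IsScalarTower.toAlgHom Γ(Y, ⊤) Γ(T, ⊤) Γ(Z, ⊤)).toLinearMap (map_one (algebraMap _ _))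
    hT1 hT2 hZ1 hZ2 ξ'.appTop.hom (fun a => congrArg (fun q => q a) h4)
    (fun b => congrArg (fun q => q.appTop b) h2)
  have H := isPullback_appTop hP
  rw [ConcreteCategory.isIso_iff_bijective]
  refine ⟨fun u v h => ?_, fun z => ?_⟩
  · have e : jX u = jX v := by
      rw [← h5]
      exact congrArg (fun q => a'.appTop q) h
    exact m1 (eX.injective (((hX1 u).trans e).trans (hX1 v).symm))
  · obtain ⟨x, hx⟩ := eX.surjective (a'.appTop z)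
    obtain ⟨y, hy⟩ := eT.surjective (b'.appTop z)
    have hxy : ψ.toLinearMap.lTensor A x =
        (IsScalarTower.toAlgHom Γ(Y, ⊤) Γ(T, ⊤) Γ(Z, ⊤)).toLinearMap.lTensor A y := by
      apply eZ.injective
      rw [← cX, ← cT, hx, hy]
      exact congrArg (fun q => q z) H.w
    obtain ⟨a, rfl⟩ := m3 x y hxy
    refine ⟨a, pullback_ext H _ _ ?_ ?_⟩
    · rw [← hx, hX1]
      exact congrArg (fun q => q a) h5
    · have : y = a ⊗ₜ 1 := m2 (by
        rw [← hxy]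
        simp)
      rw [← hy, this, hT1]
      exact congrArg (fun q => q a) h6

end Groth.Agent.PinchCoh25

namespace Groth.Agent.PinchCoh25

theorem exists_of_pullback {A B C D : CommRingCat.{u}} {f : A ⟶ B} {g : A ⟶ C} {h : B ⟶ D} {k : C ⟶ D}
    (H : IsPullback f g h k) (b : B) (c : C) (hbc : h b = k c) : ∃ z : A, f z = b ∧ g z = c := by
  have H' := H.map (CategoryTheory.forget CommRingCat)
  exact (Types.isPullback_iff _ _ _ _).mp H' |>.2.2 b c hbc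

theorem isPushout_shift {R R' A A' P : CommRingCat.{u}} {f : R ⟶ R'} {g : R ⟶ A'} {i : R' ⟶ P} {j : A' ⟶ P}
    (h : IsPushout f g i j) {φ : R ⟶ A} (γ : A ⟶ A') [IsIso γ] (e : g = φ ≫ γ) :
    IsPushout f φ i (γ ≫ j) :=
  h.of_iso (Iso.refl _) (Iso.refl _) (asIso γ).symm (Iso.refl _) (by simp) (by simp [e]) (by simp) (by simp)

theorem specMap_appTop {Y : Scheme.{u}} [IsAffine Y] {A : CommRingCat.{u}} (φ : Γ(Y, ⊤) ⟶ A) :
    (Spec.map φ ≫ Y.isoSpec.inv).appTop = φ ≫ (Scheme.ΓSpecIso A).inv := by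
  rw [Scheme.Hom.comp_appTop, Scheme.ΓSpecIso_inv_naturality φ]
  congr 1
  simp [Scheme.isoSpec, Scheme.toSpecΓ_appTop]

end Groth.Agent.PinchCoh25
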